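import Mathlib
import Groth.Prelude.Def_W4c6equivkfinstabCyc

/-!
# The decomposition of a group ring into cyclotomic quotients
-/

set_option autoImplicit false

universe u v w

open W4c6equivkfinstab Polynomial AddMonoidAlgebra

noncomputable section

namespace Groth.Agent.GrpAlgCycLib

variable {Λ : Type u} [CommRing Λ] {A : Type v} [AddCommGroup A] {C : Type w} [AddCommGroup C]

/-- Restriction along a map of groups. -/
def qmap (φ : A →+ C) : AddMonoidAlgebra Λ A →+* AddMonoidAlgebra Λ C :=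
  AddMonoidAlgebra.mapDomainRingHom Λ φ

theorem qmap_single (φ : A →+ C) (a : A) (r : Λ) : qmap φ (AddMonoidAlgebra.single a r) = AddMonoidAlgebra.single (φ a) r :=
  AddMonoidAlgebra.mapDomain_single

theorem qmap_comp {D : Type*} [AddCommGroup D] (φ : A →+ C) (ψ : C →+ D) (x : AddMonoidAlgebra Λ A) :
    qmap ψ (qmap φ x) = qmap (ψ.comp φ) x := by
  induction x using AddMonoidAlgebra.induction_linear with
  | zero => simp
  | add x y hx hy => simp [hx, hy]
  | single a r => simp [qmap_single]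

theorem qmap_id (x : AddMonoidAlgebra Λ A) : qmap (AddMonoidHom.id A) x = x := by
  induction x using AddMonoidAlgebra.induction_linear with
  | zero => simp
  | add x y hx hy => simp [hx, hy]
  | single a r => simp [qmap_single]

theorem qmap_surjective {φ : A →+ C} (h : Function.Surjective φ) :
    Function.Surjective (qmap φ : AddMonoidAlgebra Λ A → AddMonoidAlgebra Λ C) := by
  intro y
  induction y using AddMonoidAlgebra.induction_linear with
  | zero => exact ⟨0, map_zero _⟩
  | add x y hx hy =>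
    obtain ⟨a, rfl⟩ := hx
    obtain ⟨b, rfl⟩ := hy
    exact ⟨a + b, map_add _ _ _⟩
  | single c r =>
    obtain ⟨a, rfl⟩ := h c
    exact ⟨AddMonoidAlgebra.single a r, qmap_single φ a r⟩

/-- Restriction to the cyclotomic factor. -/
def cyc (φ : A →+ C) : AddMonoidAlgebra Λ A →+* CycQuot Λ C :=
  (Ideal.Quotient.mk (cycIdeal Λ C)).comp (qmap φ)

theorem cyc_surjective {φ : A →+ C} (h : Function.Surjective φ) :
    Function.Surjective (cyc φ : AddMonoidAlgebra Λ A → CycQuot Λ C) :=
  Ideal.Quotient.mk_surjective.comp (qmap_surjective h)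

theorem qmap_aeval (φ : A →+ C) (a : A) (P : Λ[X]) :
    qmap φ (aeval (AddMonoidAlgebra.single a (1 : Λ)) P) = aeval (AddMonoidAlgebra.single (φ a) (1 : Λ)) P := by
  induction P using Polynomial.induction_on' with
  | add p q hp hq => simp [hp, hq]
  | monomial n r =>
    rw [aeval_monomial, aeval_monomial, map_mul, map_pow, qmap_single]
    congr 1
    show qmap φ (AddMonoidAlgebra.single (0 : A) r) = AddMonoidAlgebra.single (0 : C) r
    rw [qmap_single, map_zero]

theorem cycIdeal_map_le {D : Type*} [AddCommGroup D] (e : C ≃+ D) :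
    ∀ x ∈ cycIdeal Λ C, qmap e.toAddMonoidHom x ∈ cycIdeal Λ D := by
  intro x hx
  induction hx using Submodule.span_induction with
  | mem x hx =>
    obtain ⟨g, hg, rfl⟩ := hx
    rw [qmap_aeval]
    refine Ideal.subset_span ⟨e g, ?_, by rw [Nat.card_congr e.toEquiv]; rfl⟩
    rw [eq_top_iff]
    intro y _
    obtain ⟨z, hz⟩ := AddSubgroup.mem_zmultiples_iff.1 (hg ▸ AddSubgroup.mem_top (e.symm y) : e.symm y ∈ AddSubgroup.zmultiples g)
    exact AddSubgroup.mem_zmultiples_iff.2 ⟨z, by rw [← map_zsmul, hz, AddEquiv.apply_symm_apply]⟩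
  | zero => simp
  | add x y _ _ hx hy => rw [map_add]; exact add_mem hx hy
  | smul r x _ hx => rw [smul_eq_mul, map_mul]; exact Ideal.mul_mem_left _ _ hx

theorem ker_cyc_le {D : Type*} [AddCommGroup D] {φ : A →+ C} {ψ : A →+ D} (hφ : Function.Surjective φ)
    (hψ : Function.Surjective ψ) (h : φ.ker = ψ.ker) :
    RingHom.ker (cyc φ : AddMonoidAlgebra Λ A →+* CycQuot Λ C) ≤ RingHom.ker (cyc ψ) := by
  let e : C ≃+ D := (QuotientAddGroup.quotientKerEquivOfSurjective φ hφ).symm.trans
    ((QuotientAddGroup.quotientAddEquivOfEq h).trans (QuotientAddGroup.quotientKerEquivOfSurjective ψ hψ))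
  have he : e.toAddMonoidHom.comp φ = ψ := by
    ext a
    have : (QuotientAddGroup.quotientKerEquivOfSurjective φ hφ).symm (φ a) = (a : A ⧸ φ.ker) := by
      apply (QuotientAddGroup.quotientKerEquivOfSurjective φ hφ).injective
      rw [AddEquiv.apply_symm_apply]
      rfl
    simp only [e, AddMonoidHom.comp_apply, AddEquiv.coe_toAddMonoidHom, AddEquiv.trans_apply, this]
    rfl
  intro x hx
  rw [RingHom.mem_ker] at hx ⊢
  rw [cyc, RingHom.comp_apply, Ideal.Quotient.eq_zero_iff_mem] at hx ⊢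
  rw [← he, ← qmap_comp]
  exact cycIdeal_map_le e _ hx

theorem ker_cyc_congr {D : Type*} [AddCommGroup D] {φ : A →+ C} {ψ : A →+ D} (hφ : Function.Surjective φ)
    (hψ : Function.Surjective ψ) (h : φ.ker = ψ.ker) :
    RingHom.ker (cyc φ : AddMonoidAlgebra Λ A →+* CycQuot Λ C) = RingHom.ker (cyc ψ) :=
  le_antisymm (ker_cyc_le hφ hψ h) (ker_cyc_le hψ hφ h.symm)

section Cyclic

variable [Finite C] {g : C} (hg : AddSubgroup.zmultiples g = ⊤)
include hg

theorem addOrderOf_gen : addOrderOf g = Nat.card C := by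
  rw [← Nat.card_zmultiples, hg, Nat.card_congr AddSubgroup.topEquiv.toEquiv]

theorem exists_nsmul_gen (c : C) : ∃ k : ℕ, k • g = c := by
  have : c ∈ AddSubgroup.zmultiples g := hg ▸ AddSubgroup.mem_top c
  rw [← mem_multiples_iff_mem_zmultiples, AddSubmonoid.mem_multiples_iff] at this
  exact this

theorem single_gen_pow (k : ℕ) :
    AddMonoidAlgebra.single g (1 : Λ) ^ k = AddMonoidAlgebra.single (k • g) (1 : Λ) := by
  rw [AddMonoidAlgebra.single_pow, one_pow]

theorem aeval_gen_surjective (x : AddMonoidAlgebra Λ C) :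
    ∃ P : Λ[X], aeval (AddMonoidAlgebra.single g (1 : Λ)) P = x := by
  induction x using AddMonoidAlgebra.induction_linear with
  | zero => exact ⟨0, map_zero _⟩
  | add x y hx hy =>
    obtain ⟨a, rfl⟩ := hx
    obtain ⟨b, rfl⟩ := hy
    exact ⟨a + b, map_add _ _ _⟩
  | single c r =>
    obtain ⟨k, rfl⟩ := exists_nsmul_gen hg c
    refine ⟨Polynomial.monomial k r, ?_⟩
    rw [aeval_monomial, single_gen_pow hg, ← Algebra.smul_def, AddMonoidAlgebra.smul_single', mul_one]

theorem X_pow_sub_one_dvd {P : Λ[X]} (h : aeval (AddMonoidAlgebra.single g (1 : Λ)) P = 0) :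
    X ^ Nat.card C - 1 ∣ P := by
  classical
  set n := Nat.card C with hn
  have hn0 : n ≠ 0 := Nat.card_pos.ne'
  nontriviality Λ
  have hmonic : (X ^ n - 1 : Λ[X]).Monic := monic_X_pow_sub_C _ hn0
  rw [← Polynomial.modByMonic_eq_zero_iff_dvd hmonic]
  set R := P %ₘ (X ^ n - 1) with hR
  have hzero : aeval (AddMonoidAlgebra.single g (1 : Λ)) (X ^ n - 1 : Λ[X]) = 0 := by
    rw [map_sub, map_pow, aeval_X, map_one, single_gen_pow hg,
      show n • g = 0 by rw [hn, ← addOrderOf_gen hg]; exact addOrderOf_nsmul_eq_zero g,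
      ← AddMonoidAlgebra.one_def, sub_self]
  have hR0 : aeval (AddMonoidAlgebra.single g (1 : Λ)) R = 0 := by
    rw [hR, Polynomial.modByMonic_eq_sub_mul_div P (X ^ n - 1), map_sub, map_mul, hzero, zero_mul, sub_zero, h]
  have hdeg : R.natDegree < n := by
    rcases eq_or_ne R 0 with h0 | h0
    · rw [h0, natDegree_zero]; omega
    · have := Polynomial.degree_modByMonic_lt P hmonic
      rw [← hR, degree_eq_natDegree h0, degree_eq_natDegree hmonic.ne_zero] at this
      rw [show (X ^ n - 1 : Λ[X]).natDegree = n from natDegree_X_pow_sub_C] at this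
      exact_mod_cast this
  ext j
  rw [Polynomial.coeff_zero]
  rcases le_or_gt n j with hj | hj
  · exact Polynomial.coeff_eq_zero_of_natDegree_lt (by omega)
  · rw [aeval_eq_sum_range' hdeg] at hR0
    have h2 := congrArg (fun x => x.coeff (j • g)) hR0
    simp only [AddMonoidAlgebra.coeff_sum, Finsupp.finsetSum_apply, single_gen_pow hg, AddMonoidAlgebra.smul_single',
      mul_one, AddMonoidAlgebra.coeff_single, AddMonoidAlgebra.coeff_zero, Finsupp.coe_zero, Pi.zero_apply] at h2
    rw [Finset.sum_eq_single j] at h2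
    · simpa using h2
    · intro i hi hij
      rw [Finsupp.single_eq_of_ne]
      intro e
      exact hij (nsmul_injOn_Iio_addOrderOf (by rw [addOrderOf_gen hg]; simpa using hi)
        (by rw [addOrderOf_gen hg]; exact hj) e.symm)
    · intro hj'; exact absurd (Finset.mem_range.2 hj) hj'

omit hg [Finite C] in
theorem cyclotomic_dvd_comp {n k : ℕ} (hn : 0 < n) (hk : Nat.Coprime k n) :
    cyclotomic n Λ ∣ (cyclotomic n Λ).comp (X ^ k) := by
  have hζ := Complex.isPrimitiveRoot_exp n hn.ne'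
  have hd : cyclotomic n ℤ ∣ (cyclotomic n ℤ).comp (X ^ k) := by
    rw [Polynomial.cyclotomic_eq_minpoly hζ hn]
    refine minpoly.isIntegrallyClosed_dvd (hζ.isIntegral hn) ?_
    rw [← Polynomial.cyclotomic_eq_minpoly hζ hn, aeval_comp, map_pow, aeval_X, aeval_def, eval₂_eq_eval_map,
      map_cyclotomic]
    have := (hζ.pow_of_coprime k hk).isRoot_cyclotomic hn
    exact this
  have := Polynomial.map_dvd (Int.castRingHom Λ) hd
  rwa [map_comp, Polynomial.map_pow, map_X, map_cyclotomic] at this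

theorem mem_cycIdeal_iff (P : Λ[X]) :
    aeval (AddMonoidAlgebra.single g (1 : Λ)) P ∈ cycIdeal Λ C ↔ cyclotomic (Nat.card C) Λ ∣ P := by
  constructor
  · intro h
    have key : ∀ x ∈ cycIdeal Λ C, ∃ Q : Λ[X], x = aeval (AddMonoidAlgebra.single g (1 : Λ)) (cyclotomic (Nat.card C) Λ * Q) := by
      intro x hx
      induction hx using Submodule.span_induction with
      | mem x hx =>
        obtain ⟨g', hg', rfl⟩ := hx
        obtain ⟨k, hk⟩ := exists_nsmul_gen hg g'
        have hcop : Nat.Coprime k (Nat.card C) := by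
          have h1 : addOrderOf (k • g) = Nat.card C := by rw [hk]; exact addOrderOf_gen hg'
          rw [addOrderOf_nsmul, addOrderOf_gen hg, Nat.div_eq_self] at h1
          rcases h1 with h1 | h1
          · exact absurd h1 Nat.card_pos.ne'
          · rw [Nat.coprime_comm]; exact h1
        obtain ⟨Q, hQ⟩ := cyclotomic_dvd_comp (Λ := Λ) (Nat.card_pos (α := C)) hcop
        refine ⟨Q, ?_⟩
        rw [← hQ, aeval_comp, map_pow, aeval_X, single_gen_pow hg, hk]
      | zero => exact ⟨0, by simp⟩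
      | add x y _ _ hx hy =>
        obtain ⟨a, rfl⟩ := hx
        obtain ⟨b, rfl⟩ := hy
        exact ⟨a + b, by rw [mul_add, map_add]⟩
      | smul r x _ hx =>
        obtain ⟨a, rfl⟩ := hx
        obtain ⟨b, rfl⟩ := aeval_gen_surjective hg r
        exact ⟨b * a, by rw [smul_eq_mul, ← map_mul]; congr 1; ring⟩
    obtain ⟨Q, hQ⟩ := key _ h
    have := X_pow_sub_one_dvd hg (P := P - cyclotomic (Nat.card C) Λ * Q) (by rw [map_sub, hQ, sub_self])
    have h2 := (cyclotomic.dvd_X_pow_sub_one (Nat.card C) Λ).trans this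
    rwa [dvd_sub_left (dvd_mul_right _ _)] at h2
  · rintro ⟨Q, rfl⟩
    rw [map_mul]
    exact Ideal.mul_mem_right _ _ (Ideal.subset_span ⟨g, hg, rfl⟩)

theorem cyclic_injective (hn : IsUnit (Nat.card C : Λ)) (x : AddMonoidAlgebra Λ C)
    (hx : ∀ d ∈ (Nat.card C).divisors, cyc (QuotientAddGroup.mk' (AddSubgroup.zmultiples (d • g))) x = 0) : x = 0 := by
  obtain ⟨P, rfl⟩ := aeval_gen_surjective hg x
  set n := Nat.card C
  have hdvd : ∀ d ∈ n.divisors, cyclotomic d Λ ∣ P := by
    intro d hd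
    have h := hx d hd
    rw [cyc, RingHom.comp_apply, Ideal.Quotient.eq_zero_iff_mem, qmap_aeval] at h
    set B := AddSubgroup.zmultiples (d • g)
    have hg' : AddSubgroup.zmultiples (QuotientAddGroup.mk' B g) = ⊤ := by
      rw [← AddMonoidHom.map_zmultiples, hg, AddSubgroup.map_top_of_surjective _ (QuotientAddGroup.mk'_surjective B)]
    rw [mem_cycIdeal_iff hg'] at h
    have hd' : Nat.card (C ⧸ B) = d := by
      have hdn := Nat.dvd_of_mem_divisors hd
      have h1 : Nat.card B = n / d := by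
        rw [Nat.card_zmultiples, addOrderOf_nsmul, addOrderOf_gen hg, Nat.gcd_eq_right hdn]
      have h2 := B.card_eq_card_quotient_mul_card_addSubgroup
      rw [h1] at h2
      obtain ⟨c, hc⟩ := hdn
      have hd0 := Nat.pos_of_mem_divisors hd
      have hn0 : 0 < n := Nat.card_pos
      have hc0 : 0 < c := Nat.pos_of_ne_zero fun e => by rw [e, mul_zero] at hc; omega
      change n = _ at h2
      rw [hc, Nat.mul_div_cancel_left _ hd0] at h2
      exact (Nat.eq_of_mul_eq_mul_right hc0 h2).symm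
    rwa [hd'] at h
  have hsep : (X ^ n - 1 : Λ[X]).Separable := by
    simpa using separable_X_pow_sub_C_unit (1 : Λˣ) hn
  have hprod : (∏ d ∈ n.divisors, cyclotomic d Λ) ∣ P := by
    refine Finset.prod_dvd_of_coprime (fun i hi j hj hij => ?_) hdvd
    refine Separable.isCoprime (hsep.of_dvd ?_)
    rw [← prod_cyclotomic_eq_X_pow_sub_one Nat.card_pos Λ, ← Finset.prod_pair (f := fun d => cyclotomic d Λ) hij]
    exact Finset.prod_dvd_prod_of_subset _ _ _ (by
      intro x hx; rcases Finset.mem_insert.1 hx with rfl | hx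
      · exact hi
      · rw [Finset.mem_singleton.1 hx]; exact hj)
  rw [prod_cyclotomic_eq_X_pow_sub_one Nat.card_pos Λ] at hprod
  obtain ⟨Q, rfl⟩ := hprod
  rw [map_mul, map_sub, map_pow, aeval_X, map_one, single_gen_pow hg,
    show n • g = 0 by rw [show n = addOrderOf g from (addOrderOf_gen hg).symm]; exact addOrderOf_nsmul_eq_zero g,
    ← AddMonoidAlgebra.one_def, sub_self, zero_mul]

theorem isUnit_single_sub_one (hn : IsUnit (Nat.card C : Λ)) {c : C} (hc : c ≠ 0) :
    IsUnit (Ideal.Quotient.mk (cycIdeal Λ C) (AddMonoidAlgebra.single c 1 - 1)) := by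
  set n := Nat.card C with hndef
  obtain ⟨k, rfl⟩ := exists_nsmul_gen hg c
  have hnk : ¬ n ∣ k := fun h => hc (by rwa [← addOrderOf_dvd_iff_nsmul_eq_zero, addOrderOf_gen hg])
  have hn0 : 0 < n := Nat.card_pos
  have hsep : (X ^ n - 1 : Λ[X]).Separable := by
    simpa using separable_X_pow_sub_C_unit (1 : Λˣ) hn
  set e := Nat.gcd k n
  have he : e ∈ n.properDivisors := by
    rw [Nat.mem_properDivisors]
    refine ⟨Nat.gcd_dvd_right k n, lt_of_le_of_ne (Nat.le_of_dvd hn0 (Nat.gcd_dvd_right k n)) fun h => hnk ?_⟩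
    rw [← h]; exact Nat.gcd_dvd_left k n
  have he0 : 0 < e := Nat.gcd_pos_of_pos_right _ hn0
  have hcop : IsCoprime (X ^ e - 1) (cyclotomic n Λ) := by
    refine Separable.isCoprime (hsep.of_dvd ?_)
    exact X_pow_sub_one_mul_cyclotomic_dvd_X_pow_sub_one_of_dvd Λ he
  set π : Λ[X] →+* Λ[X] ⧸ Ideal.span {cyclotomic n Λ, X ^ k - 1} := Ideal.Quotient.mk _
  have h1 : (π X) ^ k = 1 := by
    rw [← map_pow, ← map_one π, Ideal.Quotient.eq]; exact Ideal.subset_span (by simp)
  have h2 : (π X) ^ n = 1 := by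
    rw [← map_pow, ← map_one π, Ideal.Quotient.eq]
    exact Ideal.mem_of_dvd _ (cyclotomic.dvd_X_pow_sub_one n Λ) (Ideal.subset_span (by simp))
  have h3 : X ^ e - 1 ∈ Ideal.span {cyclotomic n Λ, X ^ k - 1} := by
    rw [← Ideal.Quotient.eq, map_pow, map_one]
    exact pow_gcd_eq_one.2 ⟨h1, h2⟩
  obtain ⟨a, b, hab⟩ := hcop
  have htop : (1 : Λ[X]) ∈ Ideal.span {cyclotomic n Λ, X ^ k - 1} := by
    have := add_mem (Ideal.mul_mem_left _ a h3) (Ideal.mul_mem_left _ b
      (Ideal.subset_span (show cyclotomic n Λ ∈ ({cyclotomic n Λ, X ^ k - 1} : Set Λ[X]) by simp)))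
    rwa [hab] at this
  obtain ⟨r, s, hrs⟩ := Ideal.mem_span_pair.1 htop
  refine IsUnit.of_mul_eq_one (Ideal.Quotient.mk _ (aeval (AddMonoidAlgebra.single g (1 : Λ)) s)) ?_
  rw [← single_gen_pow hg, ← map_mul, ← map_one (Ideal.Quotient.mk (cycIdeal Λ C)), Ideal.Quotient.eq]
  have : (AddMonoidAlgebra.single g (1 : Λ) ^ k - 1) * aeval (AddMonoidAlgebra.single g (1 : Λ)) s - 1 =
      aeval (AddMonoidAlgebra.single g (1 : Λ)) (-(r * cyclotomic n Λ)) := by
    rw [show -(r * cyclotomic n Λ) = (X ^ k - 1) * s - 1 by linear_combination -hrs]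
    simp
  rw [this]
  exact (mem_cycIdeal_iff hg _).2 (dvd_neg.2 (dvd_mul_left _ _))

end Cyclic

/-- The ideal cutting out the factor of `B`. -/
def K (Λ : Type u) [CommRing Λ] (B : AddSubgroup A) : Ideal (AddMonoidAlgebra Λ A) :=
  RingHom.ker (cyc (QuotientAddGroup.mk' B) : AddMonoidAlgebra Λ A →+* CycQuot Λ (A ⧸ B))

theorem cyc_eq_cycQuotMap (B : AddSubgroup A) :
    (cyc (QuotientAddGroup.mk' B) : AddMonoidAlgebra Λ A →+* CycQuot Λ (A ⧸ B)) = cycQuotMap Λ A B := rfl

theorem K_comap {φ : A →+ C} (hφ : Function.Surjective φ) (B : AddSubgroup C) (x : AddMonoidAlgebra Λ A) :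
    qmap φ x ∈ K Λ B ↔ x ∈ K Λ (B.comap φ) := by
  have hsurj : Function.Surjective ((QuotientAddGroup.mk' B).comp φ) :=
    (QuotientAddGroup.mk'_surjective B).comp hφ
  have hker : ((QuotientAddGroup.mk' B).comp φ).ker = (QuotientAddGroup.mk' (B.comap φ)).ker := by
    rw [QuotientAddGroup.ker_mk', ← AddMonoidHom.comap_ker, QuotientAddGroup.ker_mk']
  rw [K, K, ← ker_cyc_congr (Λ := Λ) hsurj (QuotientAddGroup.mk'_surjective _) hker, RingHom.mem_ker, RingHom.mem_ker,
    cyc, cyc, RingHom.comp_apply, RingHom.comp_apply, qmap_comp]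

theorem single_sub_one_mem {B : AddSubgroup A} {b : A} (hb : b ∈ B) :
    AddMonoidAlgebra.single b (1 : Λ) - 1 ∈ K Λ B := by
  rw [K, RingHom.mem_ker, cyc, RingHom.comp_apply, map_sub, qmap_single, map_one,
    show QuotientAddGroup.mk' B b = 0 from (QuotientAddGroup.eq_zero_iff b).2 hb, ← AddMonoidAlgebra.one_def,
    sub_self, map_zero]

theorem exists_unit_mul {B : AddSubgroup A} [Finite (A ⧸ B)] [IsAddCyclic (A ⧸ B)]
    (hn : IsUnit (Nat.card (A ⧸ B) : Λ)) {b : A} (hb : b ∉ B) :
    ∃ u, cyc (QuotientAddGroup.mk' B) (u * (AddMonoidAlgebra.single b (1 : Λ) - 1)) = 1 := by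
  obtain ⟨g, hg⟩ := IsAddCyclic.exists_zsmul_surjective (G := A ⧸ B)
  have hg' : AddSubgroup.zmultiples g = ⊤ := by
    rw [eq_top_iff]; exact fun x _ => AddSubgroup.mem_zmultiples_iff.2 (hg x)
  have hu := isUnit_single_sub_one (Λ := Λ) hg' hn (c := QuotientAddGroup.mk' B b)
    (fun h => hb ((QuotientAddGroup.eq_zero_iff b).1 h))
  obtain ⟨v, hv⟩ := cyc_surjective (Λ := Λ) (QuotientAddGroup.mk'_surjective B) (↑hu.unit⁻¹)
  refine ⟨v, ?_⟩
  rw [map_mul, hv, show cyc (QuotientAddGroup.mk' B) (AddMonoidAlgebra.single b (1 : Λ) - 1) =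
    Ideal.Quotient.mk _ (AddMonoidAlgebra.single (QuotientAddGroup.mk' B b) 1 - 1) by
    rw [cyc, RingHom.comp_apply, map_sub (qmap _), qmap_single, map_one (qmap _)]]
  exact hu.val_inv_mul

theorem K_isCoprime {B B' : AddSubgroup A} [Finite (A ⧸ B)] [IsAddCyclic (A ⧸ B)] [Finite (A ⧸ B')]
    [IsAddCyclic (A ⧸ B')] (hn : IsUnit (Nat.card (A ⧸ B) : Λ)) (hn' : IsUnit (Nat.card (A ⧸ B') : Λ))
    (hne : B ≠ B') : IsCoprime (K Λ B) (K Λ B') := by
  rw [Ideal.isCoprime_iff_exists]
  by_cases h : B ≤ B'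
  · obtain ⟨b, hb', hb⟩ := SetLike.not_le_iff_exists.1 (fun h' => hne (le_antisymm h h'))
    obtain ⟨u, hu⟩ := exists_unit_mul (Λ := Λ) hn hb
    refine ⟨1 - u * (AddMonoidAlgebra.single b 1 - 1), ?_, _, Ideal.mul_mem_left _ u (single_sub_one_mem hb'), by ring⟩
    rw [K, RingHom.mem_ker, map_sub, map_one, hu, sub_self]
  · obtain ⟨b, hb, hb'⟩ := SetLike.not_le_iff_exists.1 h
    obtain ⟨u, hu⟩ := exists_unit_mul (Λ := Λ) hn' hb'
    refine ⟨_, Ideal.mul_mem_left _ u (single_sub_one_mem hb), 1 - u * (AddMonoidAlgebra.single b 1 - 1), ?_, by ring⟩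
    rw [K, RingHom.mem_ker, map_sub, map_one, hu, sub_self]

theorem card_quot_unit [Finite A] (hA : IsUnit (Nat.card A : Λ)) (B : AddSubgroup A) :
    IsUnit (Nat.card (A ⧸ B) : Λ) :=
  isUnit_of_dvd_unit (Nat.cast_dvd_cast B.index_dvd_card) hA

theorem card_torsion_le [Finite A] (h : ∀ p : ℕ, p.Prime → Nat.card {x : A // p • x = 0} ≤ p) :
    ∀ n : ℕ, 0 < n → Nat.card {x : A // n • x = 0} ≤ n := by
  intro n
  induction n using Nat.strong_induction_on with
  | _ n ih =>
  intro hn
  rcases eq_or_ne n 1 with rfl | h1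
  · simp only [one_smul]
    exact le_of_eq (Nat.card_unique)
  obtain ⟨p, hp, m, hm⟩ := Nat.exists_prime_and_dvd h1
  have hm0 : 0 < m := Nat.pos_of_ne_zero fun e => by rw [e, mul_zero] at hm; omega
  let f : (nsmulAddMonoidHom (α := A) n).ker →+ (nsmulAddMonoidHom (α := A) m).ker :=
    { toFun := fun x => ⟨p • x.1, by
        have := x.2
        rw [AddMonoidHom.mem_ker, nsmulAddMonoidHom_apply] at this ⊢
        rw [← mul_nsmul, mul_comm, mul_comm, ← hm]
        exact this⟩
      map_zero' := Subtype.ext (smul_zero p)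
      map_add' := fun x y => Subtype.ext (smul_add p x.1 y.1) }
  have e1 : Nat.card {x : A // n • x = 0} = Nat.card (nsmulAddMonoidHom (α := A) n).ker := rfl
  rw [e1, f.ker.card_eq_card_quotient_mul_card_addSubgroup]
  have h2 : Nat.card f.ker ≤ p := by
    refine le_trans (Nat.card_le_card_of_injective (fun x => (⟨x.1.1, congrArg Subtype.val x.2⟩ : {x : A // p • x = 0}))
      fun a b e => ?_) (h p hp)
    exact Subtype.ext (Subtype.ext (congrArg (fun z : {x : A // p • x = 0} => z.1) e))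
  have h3 : Nat.card ((nsmulAddMonoidHom (α := A) n).ker ⧸ f.ker) ≤ m := by
    rw [Nat.card_congr (QuotientAddGroup.quotientKerEquivRange f).toEquiv]
    exact le_trans (Nat.card_le_card_of_injective _ Subtype.val_injective)
      (ih m (by rw [hm]; exact lt_mul_of_one_lt_left hm0 hp.one_lt) hm0)
  calc _ ≤ m * p := Nat.mul_le_mul h3 h2
    _ = n := by rw [hm, mul_comm]

theorem isAddCyclic_of_torsion [Finite A] (h : ∀ p : ℕ, p.Prime → Nat.card {x : A // p • x = 0} ≤ p) :
    IsAddCyclic A := by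
  classical
  haveI := Fintype.ofFinite A
  refine isAddCyclic_of_card_nsmul_eq_zero_le fun n hn => ?_
  rw [← Fintype.card_subtype, ← Nat.card_eq_fintype_card]
  exact card_torsion_le h n hn

/-- The sum of the translates by the multiples of `a`. -/
def es (Λ : Type u) [CommRing Λ] (p : ℕ) (a : A) : AddMonoidAlgebra Λ A :=
  ∑ j ∈ Finset.range p, AddMonoidAlgebra.single (j • a) 1

theorem es_identity (p : ℕ) (hp : p.Prime) (x y : A) (hx : p • x = 0) (hy : p • y = 0) :
    (∑ i ∈ Finset.range p, es Λ p (x + i • y)) + es Λ p y = (p : AddMonoidAlgebra Λ A) + es Λ p x * es Λ p y := by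
  classical
  haveI : Fact p.Prime := ⟨hp⟩
  have hper : ∀ (z : A), p • z = 0 → ∀ k : ℕ, k • z = (k % p) • z := fun z hz k => by
    conv_lhs => rw [← Nat.mod_add_div k p, add_nsmul, mul_nsmul, hz, nsmul_zero, add_zero]
  simp only [es]
  rw [Finset.sum_comm, Finset.sum_mul]
  obtain ⟨q, rfl⟩ : ∃ q, p = q + 1 := ⟨p - 1, by have := hp.pos; omega⟩
  rw [Finset.sum_range_succ' _ q, Finset.sum_range_succ' (fun j => AddMonoidAlgebra.single (j • x) (1 : Λ) * _) q]
  have h0 : (∑ i ∈ Finset.range (q + 1), AddMonoidAlgebra.single ((0 : ℕ) • (x + i • y)) (1 : Λ)) =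
      ((q + 1 : ℕ) : AddMonoidAlgebra Λ A) := by simp [← AddMonoidAlgebra.one_def]
  have h1 : ∀ j ∈ Finset.range q, (∑ i ∈ Finset.range (q + 1), AddMonoidAlgebra.single ((j + 1) • (x + i • y)) (1 : Λ)) =
      AddMonoidAlgebra.single ((j + 1) • x) 1 * ∑ i ∈ Finset.range (q + 1), AddMonoidAlgebra.single (i • y) 1 := by
    intro j hj
    have hnd : ¬ (q + 1) ∣ (j + 1) := Nat.not_dvd_of_pos_of_lt (by omega) (by have := Finset.mem_range.1 hj; omega)
    rw [Finset.mul_sum]
    refine Finset.sum_bij (fun i _ => ((j + 1) * i) % (q + 1)) (fun i _ => Finset.mem_range.2 (Nat.mod_lt _ (by omega)))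
      (fun a ha b hb hab => ?_) (fun b hb => ?_) (fun i _ => ?_)
    · have : ((j + 1) * a : ℕ) ≡ (j + 1) * b [MOD q + 1] := hab
      have := Nat.ModEq.cancel_left_of_coprime (c := j + 1) ((hp.coprime_iff_not_dvd).2 hnd) this
      exact Nat.ModEq.eq_of_lt_of_lt this (Finset.mem_range.1 ha) (Finset.mem_range.1 hb)
    · obtain ⟨inv, hinv⟩ := Nat.exists_mul_mod_eq_one_of_coprime ((hp.coprime_iff_not_dvd).2 hnd).symm hp.one_lt
      refine ⟨(inv * b) % (q + 1), Finset.mem_range.2 (Nat.mod_lt _ (by omega)), ?_⟩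
      show (j + 1) * ((inv * b) % (q + 1)) % (q + 1) = b
      rw [Nat.mul_mod, Nat.mod_mod, ← Nat.mul_mod, ← mul_assoc, Nat.mul_mod, hinv.2, one_mul, Nat.mod_mod,
        Nat.mod_eq_of_lt (Finset.mem_range.1 hb)]
    · rw [AddMonoidAlgebra.single_mul_single, one_mul, nsmul_add, ← mul_nsmul', ← hper y hy]
  rw [Finset.sum_congr rfl h1, h0]
  simp only [zero_nsmul, ← AddMonoidAlgebra.one_def, one_mul]
  ring

theorem mul_es_eq_zero (p : ℕ) (hp0 : 0 < p) (a : A) (ha : p • a = 0) {x : AddMonoidAlgebra Λ A}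
    (hx : qmap (QuotientAddGroup.mk' (AddSubgroup.zmultiples a)) x = 0) : x * es Λ p a = 0 := by
  classical
  set π := QuotientAddGroup.mk' (AddSubgroup.zmultiples a)
  have hstep : AddMonoidAlgebra.single a (1 : Λ) * es Λ p a = es Λ p a := by
    rw [es, Finset.mul_sum]
    simp only [AddMonoidAlgebra.single_mul_single, one_mul]
    rw [Finset.sum_congr rfl (fun j _ => by rw [← succ_nsmul'])]
    obtain ⟨q, rfl⟩ : ∃ q, p = q + 1 := ⟨p - 1, by omega⟩
    rw [Finset.sum_range_succ _ q, Finset.sum_range_succ' (fun j => AddMonoidAlgebra.single (j • a) (1 : Λ)) q, ha, zero_nsmul]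
  have hmul : ∀ k : ℕ, AddMonoidAlgebra.single (k • a) (1 : Λ) * es Λ p a = es Λ p a := by
    intro k
    induction k with
    | zero => rw [zero_nsmul, ← AddMonoidAlgebra.one_def, one_mul]
    | succ k ih =>
      rw [succ_nsmul, show AddMonoidAlgebra.single (k • a + a) (1 : Λ) =
        AddMonoidAlgebra.single (k • a) 1 * AddMonoidAlgebra.single a 1 by
        rw [AddMonoidAlgebra.single_mul_single, one_mul], mul_assoc, hstep, ih]
  have hsec : ∀ b : A, AddMonoidAlgebra.single b (1 : Λ) * es Λ p a =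
      AddMonoidAlgebra.single (π b).out 1 * es Λ p a := by
    intro b
    have hb : (π b).out - b ∈ AddSubgroup.zmultiples a := by
      rw [← QuotientAddGroup.eq_zero_iff, QuotientAddGroup.mk_sub, sub_eq_zero]
      exact Quotient.out_eq _
    obtain ⟨z, hz⟩ := AddSubgroup.mem_zmultiples_iff.1 hb
    have hk : z • a = (z % (p : ℤ)).toNat • a := by
      rw [← natCast_zsmul, Int.toNat_of_nonneg (Int.emod_nonneg _ (by omega))]
      conv_lhs => rw [← Int.emod_add_mul_ediv z p, add_zsmul, mul_comm, mul_zsmul, natCast_zsmul, ha, zsmul_zero, add_zero]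
    rw [show (π b).out = b + (z % (p : ℤ)).toNat • a by rw [← hk, hz]; abel,
      show AddMonoidAlgebra.single (b + (z % (p : ℤ)).toNat • a) (1 : Λ) =
        AddMonoidAlgebra.single b 1 * AddMonoidAlgebra.single ((z % (p : ℤ)).toNat • a) 1 by
        rw [AddMonoidAlgebra.single_mul_single, one_mul], mul_assoc, hmul]
  let L : AddMonoidAlgebra Λ (A ⧸ AddSubgroup.zmultiples a) →+ AddMonoidAlgebra Λ A :=
    (Finsupp.liftAddHom fun c => (AddMonoidHom.mulRight (es Λ p a)).comp
      (AddMonoidAlgebra.singleAddHom c.out)).comp (AddMonoidAlgebra.coeffAddEquiv).toAddMonoidHom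
  have hL : ∀ y : AddMonoidAlgebra Λ A, y * es Λ p a = L (qmap π y) := by
    intro y
    induction y using AddMonoidAlgebra.induction_linear with
    | zero => simp
    | add s t hs ht => rw [add_mul, map_add, map_add, hs, ht]
    | single b r =>
      rw [qmap_single, show AddMonoidAlgebra.single b r = r • AddMonoidAlgebra.single b (1 : Λ) by
        rw [AddMonoidAlgebra.smul_single', mul_one], smul_mul_assoc, hsec, ← smul_mul_assoc,
        AddMonoidAlgebra.smul_single', mul_one]
      simp [L]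
  rw [hL, hx, map_zero]

theorem injective_aux (m : ℕ) : ∀ {A : Type v} [AddCommGroup A] [Finite A], Nat.card A = m →
    IsUnit (Nat.card A : Λ) → ∀ x : AddMonoidAlgebra Λ A,
      (∀ B : AddSubgroup A, IsAddCyclic (A ⧸ B) → x ∈ K Λ B) → x = 0 := by
  induction m using Nat.strong_induction_on with
  | _ m ih =>
  intro A _ _ hm hu x hx
  by_cases hcyc : IsAddCyclic A
  · obtain ⟨g, hg⟩ := IsAddCyclic.exists_zsmul_surjective (G := A)
    have hg' : AddSubgroup.zmultiples g = ⊤ := by
      rw [eq_top_iff]; exact fun a _ => AddSubgroup.mem_zmultiples_iff.2 (hg a)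
    exact cyclic_injective hg' hu x fun d _ => RingHom.mem_ker.1 (hx _
      (isAddCyclic_of_surjective _ (QuotientAddGroup.mk'_surjective _)))
  · obtain ⟨p, hp, hpc⟩ : ∃ p : ℕ, p.Prime ∧ p < Nat.card {x : A // p • x = 0} := by
      by_contra h
      push Not at h
      exact hcyc (isAddCyclic_of_torsion h)
    have : 1 < Nat.card {x : A // p • x = 0} := hp.one_lt.trans hpc
    obtain ⟨⟨a, ha⟩, hane⟩ := @exists_ne _ (Finite.one_lt_card_iff_nontrivial.1 this) ⟨(0 : A), nsmul_zero p⟩
    have ha0 : a ≠ 0 := fun e => hane (Subtype.ext e)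
    have hord : addOrderOf a = p := by
      haveI : Fact p.Prime := ⟨hp⟩
      exact addOrderOf_eq_prime ha ha0
    obtain ⟨b, hb, hb'⟩ : ∃ b : A, p • b = 0 ∧ b ∉ AddSubgroup.zmultiples a := by
      by_contra h
      push Not at h
      have : Nat.card {x : A // p • x = 0} ≤ Nat.card (AddSubgroup.zmultiples a) :=
        Nat.card_le_card_of_injective (fun z => (⟨z.1, h z.1 z.2⟩ : AddSubgroup.zmultiples a))
          fun s t e => Subtype.ext (congrArg (fun w : AddSubgroup.zmultiples a => w.1) e)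
      rw [Nat.card_zmultiples, hord] at this
      omega
    have hkill : ∀ z : A, p • z = 0 → z ≠ 0 → x * es Λ p z = 0 := by
      intro z hz hz0
      refine mul_es_eq_zero p hp.pos z hz ?_
      set Z := AddSubgroup.zmultiples z
      have hlt : Nat.card (A ⧸ Z) < m := by
        have h2 := Z.card_eq_card_quotient_mul_card_addSubgroup
        have hZ : 1 < Nat.card Z := by
          rw [Nat.card_zmultiples]
          haveI : Fact p.Prime := ⟨hp⟩
          rw [addOrderOf_eq_prime hz hz0]; exact hp.one_lt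
        rw [← hm, h2]
        exact lt_mul_of_one_lt_right Nat.card_pos hZ
      refine ih _ hlt rfl (card_quot_unit hu Z) _ fun B hB => ?_
      rw [K_comap (QuotientAddGroup.mk'_surjective Z)]
      haveI := hB
      let e := (QuotientAddGroup.quotientKerEquivOfSurjective ((QuotientAddGroup.mk' B).comp (QuotientAddGroup.mk' Z))
            ((QuotientAddGroup.mk'_surjective B).comp (QuotientAddGroup.mk'_surjective Z))).symm.trans
            (QuotientAddGroup.quotientAddEquivOfEq
              (N := B.comap (QuotientAddGroup.mk' Z)) (by rw [← AddMonoidHom.comap_ker, QuotientAddGroup.ker_mk']))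
      exact hx _ (isAddCyclic_of_surjective e.toAddMonoidHom e.surjective)
    have hne : ∀ i : ℕ, b + i • a ≠ 0 := fun i e => hb' (by
      rw [eq_neg_of_add_eq_zero_left e]
      exact neg_mem (AddSubgroup.nsmul_mem _ (AddSubgroup.mem_zmultiples a) i))
    have key := congrArg (x * ·) (es_identity (Λ := Λ) p hp b a hb ha)
    simp only [mul_add, Finset.mul_sum] at key
    rw [Finset.sum_eq_zero (fun i _ => hkill _ (by rw [nsmul_add, hb, ← mul_nsmul, mul_comm, mul_nsmul, ha, nsmul_zero, add_zero]) (hne i)),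
      hkill a ha ha0, add_zero, ← mul_assoc, hkill b hb (fun e => hb' (by rw [e]; exact zero_mem _)), zero_mul,
      add_zero] at key
    have hpu : IsUnit ((p : ℕ) : AddMonoidAlgebra Λ A) := by
      have h1 : IsUnit (p : Λ) := isUnit_of_dvd_unit (Nat.cast_dvd_cast (hord ▸ addOrderOf_dvd_natCard a)) hu
      simpa using h1.map (algebraMap Λ (AddMonoidAlgebra Λ A))
    exact hpu.mul_left_eq_zero.1 key.symm

theorem bijective_pi [Finite A] (hA : IsUnit (Nat.card A : Λ)) :
    Function.Bijective (RingHom.pi fun B : {B : AddSubgroup A // IsAddCyclic (A ⧸ B)} => cycQuotMap Λ A B.1) := by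
  haveI : ∀ B : {B : AddSubgroup A // IsAddCyclic (A ⧸ B)}, IsAddCyclic (A ⧸ B.1) := fun B => B.2
  haveI : Finite {B : AddSubgroup A // IsAddCyclic (A ⧸ B)} := inferInstance
  constructor
  · rw [injective_iff_map_eq_zero]
    intro x hx
    exact injective_aux _ rfl hA x fun B hB => RingHom.mem_ker.2 (congrFun hx ⟨B, hB⟩)
  · intro y
    choose z hz using fun B : {B : AddSubgroup A // IsAddCyclic (A ⧸ B)} =>
      cyc_surjective (Λ := Λ) (QuotientAddGroup.mk'_surjective B.1) (y B)
    obtain ⟨r, hr⟩ := Ideal.exists_forall_sub_mem_ideal (I := fun B : {B : AddSubgroup A // IsAddCyclic (A ⧸ B)} => K Λ B.1)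
      (fun B B' hne => K_isCoprime (card_quot_unit hA _) (card_quot_unit hA _) fun e => hne (Subtype.ext e)) z
    refine ⟨r, funext fun B => ?_⟩
    show cyc (QuotientAddGroup.mk' B.1) r = y B
    rw [← hz B, ← sub_eq_zero, ← map_sub]
    exact RingHom.mem_ker.1 (hr B)

theorem mem_locSubmonoid {B : AddSubgroup A} {s : AddMonoidAlgebra Λ A} :
    s ∈ locSubmonoid Λ A B ↔ cyc (QuotientAddGroup.mk' B) s = 1 := Iff.rfl

theorem exists_loc_mem_of_not_le {B₀ B : AddSubgroup A} [Finite (A ⧸ B)] [IsAddCyclic (A ⧸ B)]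
    (hn : IsUnit (Nat.card (A ⧸ B) : Λ)) (hle : ¬ B₀ ≤ B) :
    ∃ s ∈ locSubmonoid Λ A B, qmap (QuotientAddGroup.mk' B₀) s = 0 := by
  obtain ⟨b, hb, hb'⟩ := SetLike.not_le_iff_exists.1 hle
  obtain ⟨u, hu⟩ := exists_unit_mul (Λ := Λ) hn hb'
  refine ⟨_, mem_locSubmonoid.2 hu, ?_⟩
  rw [map_mul, map_sub, qmap_single, map_one, show QuotientAddGroup.mk' B₀ b = 0 from (QuotientAddGroup.eq_zero_iff b).2 hb,
    ← AddMonoidAlgebra.one_def, sub_self, mul_zero]

end Groth.Agent.GrpAlgCycLib
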